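import Mathlib

/-!
Groups of rank one in their characteristic: an automorphism fixing a Sylow subgroup and a
torus element acting freely on it is trivial.
-/

set_option autoImplicit false
set_option linter.unusedSectionVars false
set_option linter.style.haveILetI false

open scoped commutatorElement

namespace CfsgLib.IsolatedRankOne

variable {X K : Type*} [Group X] [Group K]

/-- A Sylow `p`-subgroup `U`, an opposite one `U₀` and an element `t` of order dividing `p - 1`. -/
structure Data (p : ℕ) (X : Type*) [Group X] where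
  U : Subgroup X
  U₀ : Subgroup X
  t : X
  isP : IsPGroup p ↥U
  index : ¬ p ∣ U.index
  nontriv : U ≠ ⊥
  inter : U ⊓ U₀ = ⊥
  conj₀ : ∃ w : X, U₀ = U.map (MulAut.conj w).toMonoidHom
  trans : ∀ g : X, U.map (MulAut.conj g).toMonoidHom = U ∨
    ∃ u ∈ U, U.map (MulAut.conj g).toMonoidHom = U₀.map (MulAut.conj u).toMonoidHom
  htU : t ∈ Subgroup.normalizer (U : Set X)
  htU₀ : t ∈ Subgroup.normalizer (U₀ : Set X)
  htp : t ^ (p - 1) = 1
  free : ∀ u ∈ U, t * u = u * t → u = 1
  cyc : ∃ g₀ ∈ Subgroup.normalizer (U : Set X), ∀ x ∈ Subgroup.normalizer (U : Set X),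
    ∃ k : ℤ, ∃ u ∈ U, x = g₀ ^ k * u
  perfect : commutator X = ⊤
  gen : Subgroup.normalClosure (U : Set X) = ⊤

variable {p : ℕ}

theorem map_conj_mul (H : Subgroup X) (a b : X) :
    H.map (MulAut.conj (a * b)).toMonoidHom =
      (H.map (MulAut.conj b).toMonoidHom).map (MulAut.conj a).toMonoidHom := by
  rw [Subgroup.map_map]
  congr 1
  ext x
  simp [mul_assoc]

theorem map_conj_one (H : Subgroup X) : H.map (MulAut.conj (1 : X)).toMonoidHom = H := by
  ext x
  rw [Subgroup.mem_map_equiv]
  rw [map_one]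
  rfl

theorem mem_normalizer_iff_map [Finite X] {H : Subgroup X} {g : X} :
    g ∈ Subgroup.normalizer (H : Set X) ↔ H.map (MulAut.conj g).toMonoidHom = H := by
  constructor
  · intro hg
    ext x
    rw [Subgroup.mem_map_equiv]
    have := Subgroup.mem_normalizer_iff.mp hg ((MulAut.conj g).symm x)
    simpa [mul_assoc] using this
  · intro h
    refine Subgroup.mem_normalizer_iff.mpr fun x => ?_
    conv_rhs => rw [← h, Subgroup.mem_map_equiv]
    simp [mul_assoc]

/-- A `p`-element normalizing a `p`-subgroup of index prime to `p` lies in it. -/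
theorem mem_of_normalizes [Finite X] [Fact p.Prime] {H : Subgroup X} (hH : IsPGroup p ↥H)
    (hi : ¬ p ∣ H.index) {v : X} (hv : IsPGroup p ↥(Subgroup.zpowers v))
    (hn : v ∈ Subgroup.normalizer (H : Set X)) : v ∈ H := by
  have h : IsPGroup p ↥(Subgroup.zpowers v ⊔ H) :=
    IsPGroup.to_sup_of_normal_right' hv hH (Subgroup.zpowers_le.mpr hn)
  let P : Sylow p X := hH.toSylow hi
  have := P.3 h le_sup_right
  change v ∈ (P : Subgroup X)
  rw [← this]
  exact le_sup_left (a := Subgroup.zpowers v) (Subgroup.mem_zpowers v)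

namespace Data

variable [Finite X] [Fact p.Prime] (D : Data p X)

theorem isP₀ : IsPGroup p ↥D.U₀ := by
  obtain ⟨w, hw⟩ := D.conj₀
  rw [hw]
  exact D.isP.map _

theorem index₀ : ¬ p ∣ D.U₀.index := by
  obtain ⟨w, hw⟩ := D.conj₀
  have h := Subgroup.index_mul_card D.U₀
  rw [hw, Subgroup.card_map_of_injective (MulEquiv.injective _), ← Subgroup.index_mul_card D.U] at h
  rw [hw, Nat.eq_of_mul_eq_mul_right Nat.card_pos h]
  exact D.index

include D in
/-- A central `p`-element is trivial. -/
theorem central_eq_one {c : X} (hc : c ∈ Subgroup.center X) (hp : IsPGroup p ↥(Subgroup.zpowers c)) :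
    c = 1 := by
  have hn : ∀ H : Subgroup X, c ∈ Subgroup.normalizer (H : Set X) := fun H =>
    Subgroup.centralizer_le_normalizer _ fun y _ => Subgroup.mem_center_iff.mp hc y
  have h : c ∈ D.U ⊓ D.U₀ :=
    ⟨mem_of_normalizes D.isP D.index hp (hn _), mem_of_normalizes D.isP₀ D.index₀ hp (hn _)⟩
  rwa [D.inter, Subgroup.mem_bot] at h

/-- An element of `U` normalizing `U₀` is trivial. -/
theorem eq_one_of_mem {u : X} (hu : u ∈ D.U) (hn : u ∈ Subgroup.normalizer (D.U₀ : Set X)) : u = 1 := by
  have h : u ∈ D.U ⊓ D.U₀ :=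
    ⟨hu, mem_of_normalizes D.isP₀ D.index₀ (D.isP.to_le (Subgroup.zpowers_le.mpr hu)) hn⟩
  rwa [D.inter, Subgroup.mem_bot] at h

/-- **Rigidity.** An automorphism fixing `U` pointwise and fixing `t` is the identity. -/
theorem rigid (α : X ≃* X) (hU : ∀ u ∈ D.U, α u = u) (ht : α D.t = D.t) (x : X) : α x = x := by
  obtain ⟨w, hw⟩ := D.conj₀
  have hUmap : D.U.map α.toMonoidHom = D.U := by
    ext y
    constructor
    · rintro ⟨u, hu, rfl⟩
      show α u ∈ D.U
      rw [hU u hu]
      exact hu
    · exact fun hy => ⟨y, hy, hU y hy⟩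
  have hαconj : ∀ g : X, (D.U.map (MulAut.conj g).toMonoidHom).map α.toMonoidHom =
      D.U.map (MulAut.conj (α g)).toMonoidHom := by
    intro g
    conv_rhs => rw [← hUmap]
    rw [Subgroup.map_map, Subgroup.map_map]
    congr 1
    ext y
    simp
  -- `α` fixes `U₀`
  have hU₀ : D.U₀.map α.toMonoidHom = D.U₀ := by
    rw [hw, hαconj]
    rcases D.trans (α w) with h | ⟨u, hu, h⟩
    · exfalso
      have h2 : D.U₀ = D.U := by
        apply Subgroup.map_injective (f := α.toMonoidHom) α.injective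
        show D.U₀.map α.toMonoidHom = D.U.map α.toMonoidHom
        rw [hw, hαconj, h, hUmap]
      exact D.nontriv (by simpa [h2] using D.inter)
    · rw [h, ← hw]
      have hn : D.t ∈ Subgroup.normalizer ((D.U₀.map (MulAut.conj u).toMonoidHom : Subgroup X) : Set X) := by
        rw [mem_normalizer_iff_map, ← h, ← hαconj, ← hw, Subgroup.map_map]
        conv_rhs => rw [← (mem_normalizer_iff_map.mp D.htU₀), Subgroup.map_map]
        congr 1
        ext y
        simp [ht]
      have hv : u⁻¹ * (D.t * u * D.t⁻¹) ∈ Subgroup.normalizer (D.U₀ : Set X) := by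
        rw [mem_normalizer_iff_map]
        have e1 := mem_normalizer_iff_map.mp hn
        rw [← map_conj_mul] at e1
        have e2 : (D.U₀.map (MulAut.conj (D.t * u)).toMonoidHom).map (MulAut.conj u⁻¹).toMonoidHom =
            (D.U₀.map (MulAut.conj u).toMonoidHom).map (MulAut.conj u⁻¹).toMonoidHom := by rw [e1]
        rw [← map_conj_mul, ← map_conj_mul, inv_mul_cancel] at e2
        have e3 := mem_normalizer_iff_map.mp (inv_mem D.htU₀)
        rw [show u⁻¹ * (D.t * u * D.t⁻¹) = u⁻¹ * (D.t * u) * D.t⁻¹ by group, map_conj_mul, e3, e2, map_conj_one]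
      have hvU : u⁻¹ * (D.t * u * D.t⁻¹) ∈ D.U :=
        mul_mem (inv_mem hu) ((Subgroup.mem_normalizer_iff.mp D.htU u).mp hu)
      have h1 := D.eq_one_of_mem hvU hv
      have hu1 : u = 1 := D.free u hu (by
        have := inv_mul_eq_one.mp h1
        exact mul_inv_eq_iff_eq_mul.mp this.symm)
      subst hu1
      exact map_conj_one _
  -- `α` fixes every conjugate of `U`
  have hall : ∀ g : X, D.U.map (MulAut.conj (α g)).toMonoidHom = D.U.map (MulAut.conj g).toMonoidHom := by
    intro g
    rw [← hαconj]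
    rcases D.trans g with h | ⟨u, hu, h⟩
    · rw [h, hUmap]
    · rw [h]
      conv_rhs => rw [← hU₀]
      rw [Subgroup.map_map, Subgroup.map_map]
      congr 1
      ext y
      simp [hU u hu]
  -- elements normalizing all conjugates are central
  have hcent : ∀ n : X, (∀ g : X, n ∈ Subgroup.normalizer
      ((D.U.map (MulAut.conj g).toMonoidHom : Subgroup X) : Set X)) → n ∈ Subgroup.center X := by
    intro n hn
    have hnU : ∀ g : X, ∀ u ∈ D.U, g⁻¹ * n * g * u = u * (g⁻¹ * n * g) := by
      intro g u hu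
      set m := g⁻¹ * n * g with hm
      have hmn : ∀ k : X, m ∈ Subgroup.normalizer
          ((D.U.map (MulAut.conj k).toMonoidHom : Subgroup X) : Set X) := by
        intro k
        rw [mem_normalizer_iff_map, hm, map_conj_mul, map_conj_mul, ← map_conj_mul D.U g k,
          mem_normalizer_iff_map.mp (hn (g * k)), map_conj_mul D.U g k, ← map_conj_mul, inv_mul_cancel]
        ext y
        simp
      have hmU : m ∈ Subgroup.normalizer (D.U : Set X) := by
        have := hmn 1
        simpa using this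
      have h1 : m * u * m⁻¹ * u⁻¹ ∈ D.U :=
        mul_mem ((Subgroup.mem_normalizer_iff.mp hmU u).mp hu) (inv_mem hu)
      have h2 : m * u * m⁻¹ * u⁻¹ ∈ Subgroup.normalizer (D.U₀ : Set X) := by
        have ha : m ∈ Subgroup.normalizer (D.U₀ : Set X) := by rw [hw]; exact hmn w
        have hb : u * m⁻¹ * u⁻¹ ∈ Subgroup.normalizer (D.U₀ : Set X) := by
          have hb' : m⁻¹ ∈ Subgroup.normalizer
              ((D.U.map (MulAut.conj (u⁻¹ * w)).toMonoidHom : Subgroup X) : Set X) := inv_mem (hmn _)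
          rw [hw, mem_normalizer_iff_map, map_conj_mul, map_conj_mul,
            ← map_conj_mul D.U u⁻¹ w, mem_normalizer_iff_map.mp hb', map_conj_mul D.U u⁻¹ w,
            ← map_conj_mul, mul_inv_cancel]
          ext y
          simp
        rw [show m * u * m⁻¹ * u⁻¹ = m * (u * m⁻¹ * u⁻¹) by group]
        exact mul_mem ha hb
      have h3 := D.eq_one_of_mem h1 h2
      exact mul_inv_eq_iff_eq_mul.mp (mul_inv_eq_one.mp h3)
    refine Subgroup.mem_center_iff.mpr fun y => ?_
    have hle : Subgroup.normalClosure (D.U : Set X) ≤ Subgroup.centralizer ({n} : Set X) := by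
      rw [Subgroup.normalClosure, Subgroup.closure_le]
      intro z hz
      obtain ⟨u, hu, huz⟩ := Group.mem_conjugatesOfSet_iff.mp hz
      obtain ⟨g, rfl⟩ := isConj_iff.mp huz
      refine Subgroup.mem_centralizer_singleton_iff.mpr ?_
      calc g * u * g⁻¹ * n = g * (u * (g⁻¹ * n * g)) * g⁻¹ := by group
        _ = g * (g⁻¹ * n * g * u) * g⁻¹ := by rw [hnU g u hu]
        _ = n * (g * u * g⁻¹) := by group
    rw [D.gen] at hle
    exact Subgroup.mem_centralizer_singleton_iff.mp (hle (Subgroup.mem_top y))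
  have hz : ∀ k : X, k⁻¹ * α k ∈ Subgroup.center X := by
    intro k
    refine hcent _ fun g => ?_
    rw [mem_normalizer_iff_map, map_conj_mul, ← map_conj_mul D.U (α k) g]
    have e : D.U.map (MulAut.conj (α k * g)).toMonoidHom = D.U.map (MulAut.conj (k * g)).toMonoidHom := by
      rw [← hall (k * g), show α (k * g) = α k * α g from map_mul α k g, map_conj_mul, map_conj_mul D.U (α k) (α g), hall g]
    rw [e, map_conj_mul D.U k g, ← map_conj_mul, inv_mul_cancel]
    ext y
    simp
  let φ : X →* Subgroup.center X :=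
    MonoidHom.mk' (fun k => ⟨k⁻¹ * α k, hz k⟩) fun a b => Subtype.ext (by
      have hc := Subgroup.mem_center_iff.mp (hz a)
      show (a * b)⁻¹ * α (a * b) = a⁻¹ * α a * (b⁻¹ * α b)
      rw [map_mul]
      calc (a * b)⁻¹ * (α a * α b) = b⁻¹ * (a⁻¹ * α a) * α b := by group
        _ = a⁻¹ * α a * b⁻¹ * α b := by rw [hc b⁻¹]
        _ = a⁻¹ * α a * (b⁻¹ * α b) := by group)
  have hφ : commutator X ≤ φ.ker := by
    rw [commutator_eq_closure, Subgroup.closure_le]
    rintro c ⟨a, b, rfl⟩
    show φ ⁅a, b⁆ = 1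
    have hcomm : φ a * φ b = φ b * φ a := Subtype.ext (Subgroup.mem_center_iff.mp (φ b).2 _)
    rw [map_commutatorElement, commutatorElement_eq_one_iff_commute]
    exact hcomm
  rw [D.perfect] at hφ
  exact (inv_mul_eq_one.mp (congrArg Subtype.val (hφ (Subgroup.mem_top x)))).symm

/-- At most `p - 1` cosets of `U` in its normalizer have order dividing `p - 1`. -/
theorem ncard_le [Fintype X] : ∃ A : Finset X, A.card < p ∧ ∀ x ∈ Subgroup.normalizer (D.U : Set X),
    x ^ (p - 1) ∈ D.U → ∃ a ∈ A, a⁻¹ * x ∈ D.U := by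
  classical
  obtain ⟨g₀, hg₀, hall⟩ := D.cyc
  set N := Subgroup.normalizer (D.U : Set X)
  haveI : (D.U.subgroupOf N).Normal := Subgroup.normal_subgroupOf_of_le_normalizer le_rfl
  haveI : IsCyclic (↥N ⧸ D.U.subgroupOf N) := by
    refine ⟨⟨QuotientGroup.mk ⟨g₀, hg₀⟩, fun y => ?_⟩⟩
    induction y using QuotientGroup.induction_on with
    | H x =>
      obtain ⟨k, u, hu, hx⟩ := hall x x.2
      refine ⟨k, ?_⟩
      show (QuotientGroup.mk ⟨g₀, hg₀⟩ : ↥N ⧸ D.U.subgroupOf N) ^ k = _
      rw [← QuotientGroup.mk_zpow, QuotientGroup.eq, Subgroup.mem_subgroupOf]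
      simp only [Subgroup.coe_mul, Subgroup.coe_inv, Subgroup.coe_zpow, hx]
      simpa using hu
  haveI : Fintype (↥N ⧸ D.U.subgroupOf N) := Fintype.ofFinite _
  have hp1 : 0 < p - 1 := Nat.sub_pos_of_lt (Fact.out : p.Prime).one_lt
  set T := (Finset.univ : Finset (↥N ⧸ D.U.subgroupOf N)).filter fun a => a ^ (p - 1) = 1
  have hT : T.card ≤ p - 1 := IsCyclic.card_pow_eq_one_le hp1
  refine ⟨T.image fun a => ((Quotient.out a : ↥N) : X), ?_, fun x hx hxp => ?_⟩
  · exact lt_of_le_of_lt (Finset.card_image_le.trans hT) (Nat.sub_lt (Fact.out : p.Prime).pos one_pos)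
  · set a : ↥N ⧸ D.U.subgroupOf N := QuotientGroup.mk ⟨x, hx⟩ with ha
    refine ⟨_, Finset.mem_image_of_mem _ (Finset.mem_filter.mpr ⟨Finset.mem_univ a, ?_⟩), ?_⟩
    · rw [ha, ← QuotientGroup.mk_pow, QuotientGroup.eq_one_iff]
      exact Subgroup.mem_subgroupOf.mpr (by simpa using hxp)
    · have := QuotientGroup.out_eq' a
      rw [ha, QuotientGroup.eq, Subgroup.mem_subgroupOf] at this
      simpa [ha] using this

end Data

end CfsgLib.IsolatedRankOne
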