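import Cfsg.Agent.Lib.IsolatedRankOne.Map
import Cfsg.Agent.Lib.Classical.Card
import Cfsg.Agent.Lib.Classical.Transvection
import Cfsg.Agent.Lib.Invol.AICField

/-!
Rank one data for `SL(2, q)`, `q` a power of a prime `p ≥ 5`.
-/

set_option autoImplicit false
set_option linter.unusedSectionVars false
set_option linter.style.haveILetI false
set_option linter.unusedSimpArgs false

namespace CfsgLib.IsolatedRankOne.Linear

open Matrix
open scoped MatrixGroups

variable {F : Type*} [Field F]

/-- The upper unitriangular matrices. -/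
def upperHom : Multiplicative F →* SL(2, F) where
  toFun a := ⟨!![1, a.toAdd; 0, 1], by simp [Matrix.det_fin_two]⟩
  map_one' := by ext i j; fin_cases i <;> fin_cases j <;> simp
  map_mul' a b := by
    apply Subtype.ext
    show _ = !![(1 : F), a.toAdd; 0, 1] * !![1, b.toAdd; 0, 1]
    ext i j
    fin_cases i <;> fin_cases j <;> simp [Matrix.mul_apply, Fin.sum_univ_two, add_comm]

/-- The Weyl element. -/
def weyl : SL(2, F) := ⟨!![0, -1; 1, 0], by simp [Matrix.det_fin_two]⟩

/-- The diagonal element. -/
def diag (l : Fˣ) : SL(2, F) := ⟨!![(l : F), 0; 0, ((l⁻¹ : Fˣ) : F)], by simp [Matrix.det_fin_two]⟩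

theorem coe_upperHom (a : Multiplicative F) : (upperHom a : SL(2, F)).1 = !![1, a.toAdd; 0, 1] := rfl

theorem coe_diag (l : Fˣ) : (diag l).1 = !![(l : F), 0; 0, ((l⁻¹ : Fˣ) : F)] := rfl

theorem coe_weyl : (weyl : SL(2, F)).1 = !![0, -1; 1, 0] := rfl

theorem mem_upper {g : SL(2, F)} : g ∈ (upperHom (F := F)).range ↔ g.1 1 0 = 0 ∧ g.1 0 0 = 1 := by
  constructor
  · rintro ⟨a, rfl⟩
    simp [coe_upperHom]
  · rintro ⟨h10, h00⟩
    have hdet := g.2
    rw [Matrix.det_fin_two, h10, h00] at hdet
    simp only [one_mul, mul_zero, sub_zero] at hdet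
    refine ⟨Multiplicative.ofAdd (g.1 0 1), ?_⟩
    ext i j
    fin_cases i <;> fin_cases j <;> simp [coe_upperHom, h10, h00, hdet]

theorem coe_mul_apply (g h : SL(2, F)) (i j : Fin 2) :
    (g * h).1 i j = g.1 i 0 * h.1 0 j + g.1 i 1 * h.1 1 j := by
  rw [Matrix.SpecialLinearGroup.coe_mul, Matrix.mul_apply, Fin.sum_univ_two]

theorem inv_apply (g : SL(2, F)) :
    (g⁻¹).1 = !![g.1 1 1, -g.1 0 1; -g.1 1 0, g.1 0 0] := by
  rw [Matrix.SpecialLinearGroup.coe_inv, Matrix.adjugate_fin_two]

/-- Conjugation of the upper group by an upper triangular element. -/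
theorem conj_mem_upper {g x : SL(2, F)} (hg : g.1 1 0 = 0) (hx : x ∈ (upperHom (F := F)).range) :
    g * x * g⁻¹ ∈ (upperHom (F := F)).range := by
  obtain ⟨h10, h00⟩ := mem_upper.mp hx
  have hdet : g.1 0 0 * g.1 1 1 = 1 := by
    have := g.2
    rw [Matrix.det_fin_two, hg] at this
    simpa using this
  have hdx : x.1 1 1 = 1 := by
    have := x.2
    rw [Matrix.det_fin_two, h10, h00] at this
    simpa using this
  refine mem_upper.mpr ⟨?_, ?_⟩
  · simp [coe_mul_apply, inv_apply, Matrix.adjugate_fin_two, hg, h10]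
  · simp [coe_mul_apply, inv_apply, Matrix.adjugate_fin_two, hg, h10, h00, hdet]

theorem weyl_conj {x : SL(2, F)} (hx : x ∈ (upperHom (F := F)).range) :
    (weyl * x * weyl⁻¹).1 0 1 = 0 ∧ (weyl * x * weyl⁻¹).1 0 0 = 1 := by
  obtain ⟨h10, h00⟩ := mem_upper.mp hx
  have hdx : x.1 1 1 = 1 := by
    have := x.2
    rw [Matrix.det_fin_two, h10, h00] at this
    simpa using this
  constructor <;> simp [coe_mul_apply, inv_apply, Matrix.adjugate_fin_two, coe_weyl, h10, hdx]

theorem map_conj_eq_upper {g : SL(2, F)} (hg : g.1 1 0 = 0) :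
    (upperHom (F := F)).range.map (MulAut.conj g).toMonoidHom = (upperHom (F := F)).range := by
  ext y
  rw [Subgroup.mem_map_equiv]
  simp only [MulAut.conj_symm_apply]
  have hg' : (g⁻¹).1 1 0 = 0 := by simp [inv_apply, Matrix.adjugate_fin_two, hg]
  refine ⟨fun h => ?_, fun h => ?_⟩
  · have := conj_mem_upper hg h
    simpa [mul_assoc] using this
  · simpa using conj_mem_upper hg' h

variable [Fintype F] {p : ℕ} [Fact p.Prime] [CharP F p]

/-- Rank one data for `SL(2, F)`. -/
noncomputable def data (hp : 5 ≤ p) {a : ℕ} (ha : 1 ≤ a) (hF : Fintype.card F = p ^ a) :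
    Data p SL(2, F) := by
  classical
  have h2 : (2 : F) ≠ 0 := fun h => by
    have h' : ((2 : ℕ) : F) = 0 := by exact_mod_cast h
    have := Nat.le_of_dvd two_pos ((CharP.cast_eq_zero_iff F p 2).mp h')
    omega
  have h3 : (3 : F) ≠ 0 := fun h => by
    have h' : ((3 : ℕ) : F) = 0 := by exact_mod_cast h
    have := Nat.le_of_dvd three_pos ((CharP.cast_eq_zero_iff F p 3).mp h')
    omega
  let l : Fˣ := Units.mk0 2 h2
  have hl : (l : F) ^ (p - 1) = 1 := by
    show (2 : F) ^ (p - 1) = 1
    have h : ((2 : ZMod p)) ^ (p - 1) = 1 := ZMod.pow_card_sub_one_eq_one (by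
      intro h0
      have h' : ((2 : ℕ) : ZMod p) = 0 := by exact_mod_cast h0
      have := Nat.le_of_dvd two_pos ((ZMod.natCast_eq_zero_iff 2 p).mp h')
      omega)
    simpa [map_pow, map_ofNat] using congrArg (ZMod.castHom (dvd_refl p) F) h
  have hperf : commutator SL(2, F) = ⊤ :=
    Classical.commutator_SL_eq_top (Or.inr ⟨2, h2, fun h => h3 (by linear_combination h)⟩)
  have hsimple : IsSimpleGroup (SL(2, F) ⧸ Subgroup.center SL(2, F)) :=
    Classical.isSimpleGroup_PSL (Or.inr ⟨2, h2, fun h => h3 (by linear_combination h)⟩)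
  have hne : (upperHom (F := F)).range ≠ ⊥ := fun h => by
    have h1 : upperHom (Multiplicative.ofAdd (1 : F)) = 1 :=
      Subgroup.mem_bot.mp (h ▸ ⟨_, rfl⟩)
    have := congrArg (fun g : SL(2, F) => g.1 0 1) h1
    simp [coe_upperHom] at this
  have hinter : (upperHom (F := F)).range ⊓
      (upperHom (F := F)).range.map (MulAut.conj weyl).toMonoidHom = ⊥ := by
    rw [eq_bot_iff]
    rintro y ⟨hy, x, hx, rfl⟩
    obtain ⟨h01, h00⟩ := weyl_conj hx
    obtain ⟨h10, -⟩ := mem_upper.mp hy
    change (weyl * x * weyl⁻¹).1 1 0 = 0 at h10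
    have hdet := (weyl * x * weyl⁻¹).2
    rw [Matrix.det_fin_two, h10, h01, h00] at hdet
    simp only [one_mul, mul_zero, sub_zero] at hdet
    refine Subgroup.mem_bot.mpr ?_
    show weyl * x * weyl⁻¹ = 1
    ext i j
    fin_cases i <;> fin_cases j <;> simp [h01, h00, h10, hdet]
  exact
  { U := (upperHom (F := F)).range
    U₀ := (upperHom (F := F)).range.map (MulAut.conj weyl).toMonoidHom
    t := diag l
    isP := by
      rintro ⟨_, x, rfl⟩
      refine ⟨1, Subtype.ext ?_⟩
      show upperHom x ^ p ^ 1 = 1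
      rw [pow_one, ← map_pow]
      have : x ^ p = 1 := by
        apply Multiplicative.toAdd.injective
        simp [CharP.cast_eq_zero]
      rw [this, map_one]
    index := by
      intro h
      have hcard : Nat.card (upperHom (F := F)).range = Fintype.card F := by
        rw [← Nat.card_congr (MonoidHom.ofInjective (f := upperHom (F := F)) ?_).toEquiv,
          Nat.card_congr Multiplicative.toAdd, Nat.card_eq_fintype_card]
        intro x y hxy
        apply Multiplicative.toAdd.injective
        simpa [coe_upperHom] using congrArg (fun g : SL(2, F) => g.1 0 1) hxy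
      have hmul := Subgroup.index_mul_card (upperHom (F := F)).range
      rw [hcard, Classical.card_SL_two, mul_comm] at hmul
      rw [Nat.eq_of_mul_eq_mul_left (Fintype.card_pos) hmul, hF] at h
      have h1 : p ∣ (p ^ a) ^ 2 := dvd_pow (dvd_pow_self p (by omega)) two_ne_zero
      have := Nat.dvd_sub h1 h
      rw [Nat.sub_sub_self (Nat.one_le_pow _ _ (pow_pos (Fact.out : p.Prime).pos a))] at this
      exact absurd (Nat.le_of_dvd one_pos this) (by omega)
    nontriv := hne
    inter := hinter
    conj₀ := ⟨weyl, rfl⟩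
    trans := fun g => by
      by_cases hg : g.1 1 0 = 0
      · exact Or.inl (map_conj_eq_upper hg)
      · refine Or.inr ⟨upperHom (Multiplicative.ofAdd (g.1 0 0 / g.1 1 0)), ⟨_, rfl⟩, ?_⟩
        set u := upperHom (Multiplicative.ofAdd (g.1 0 0 / g.1 1 0))
        have hb : ((u * weyl)⁻¹ * g).1 1 0 = 0 := by
          rw [_root_.mul_inv_rev]
          simp [coe_mul_apply, inv_apply, Matrix.adjugate_fin_two, u, coe_weyl, coe_upperHom]
          field_simp
          ring
        rw [← map_conj_mul, show g = (u * weyl) * ((u * weyl)⁻¹ * g) by group, map_conj_mul,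
          map_conj_eq_upper hb]
    htU := mem_normalizer_iff_map.mpr (map_conj_eq_upper (by simp [coe_diag]))
    htU₀ := by
      rw [mem_normalizer_iff_map, ← map_conj_mul,
        show diag l * weyl = weyl * (weyl⁻¹ * diag l * weyl) by group, map_conj_mul,
        map_conj_eq_upper (by simp [coe_mul_apply, inv_apply, Matrix.adjugate_fin_two, coe_weyl, coe_diag])]
    htp := by
      have hpow : ∀ n : ℕ, (diag l) ^ n = diag (l ^ n) := by
        intro n
        induction n with
        | zero => ext i j; fin_cases i <;> fin_cases j <;> simp [coe_diag]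
        | succ n ih =>
          rw [pow_succ, ih]
          ext i j
          fin_cases i <;> fin_cases j <;> simp [coe_diag, pow_succ, mul_comm]
      rw [hpow, show l ^ (p - 1) = 1 from Units.ext (by simpa using hl)]
      ext i j
      fin_cases i <;> fin_cases j <;> simp [coe_diag]
    free := by
      rintro _ ⟨x, rfl⟩ h
      have h01 := congrArg (fun g : SL(2, F) => g.1 0 1) h
      simp [coe_upperHom, coe_diag, l, coe_mul_apply] at h01
      have hx : x.toAdd = 0 := by
        field_simp at h01
        exact (mul_eq_zero.mp (show (3 : F) * x.toAdd = 0 by linear_combination h01)).resolve_left h3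
      rw [show x = 1 from Multiplicative.toAdd.injective hx, map_one]
    cyc := by
      obtain ⟨g, hg⟩ := IsCyclic.exists_generator (α := Fˣ)
      refine ⟨diag g, mem_normalizer_iff_map.mpr (map_conj_eq_upper (by simp [coe_diag])), fun x hx => ?_⟩
      have h10 : x.1 1 0 = 0 := by
        have h1 := (Subgroup.mem_normalizer_iff.mp hx _).mp
          (⟨Multiplicative.ofAdd 1, rfl⟩ : upperHom (Multiplicative.ofAdd (1 : F)) ∈ (upperHom (F := F)).range)
        have h := (mem_upper.mp h1).1
        simp [coe_mul_apply, Matrix.adjugate_fin_two, coe_upperHom] at h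
        exact mul_self_eq_zero.mp (by linear_combination -h)
      have hdet := x.2
      rw [Matrix.det_fin_two, h10] at hdet
      simp only [mul_zero, sub_zero] at hdet
      have h00 : x.1 0 0 ≠ 0 := left_ne_zero_of_mul_eq_one hdet
      obtain ⟨k, hk⟩ := hg (Units.mk0 _ h00)
      let dh : Fˣ →* SL(2, F) :=
        { toFun := diag
          map_one' := by ext i j; fin_cases i <;> fin_cases j <;> simp [coe_diag]
          map_mul' := fun u v => by
            ext i j
            fin_cases i <;> fin_cases j <;> simp [coe_diag, mul_comm] }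
      refine ⟨k, (diag g ^ k)⁻¹ * x, ?_, by group⟩
      have e : diag g ^ k = diag (Units.mk0 _ h00) := by
        rw [← hk]
        exact (map_zpow dh g k).symm
      rw [e]
      refine mem_upper.mpr ⟨?_, ?_⟩
      · simp [coe_mul_apply, inv_apply, Matrix.adjugate_fin_two, coe_diag, h10]
      · simp [coe_mul_apply, inv_apply, Matrix.adjugate_fin_two, coe_diag, h10, h00]
    perfect := hperf
    gen := gen_of_simple hperf hsimple hne hinter rfl }

end CfsgLib.IsolatedRankOne.Linear
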