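import Cfsg.Agent.Lib.IsolatedRankOne.Map
import Cfsg.Agent.Lib.Classical.UnitaryThreeSylow
import Cfsg.Agent.Lib.Classical.UnitarySimple

/-!
Rank one data for `SU(3, q)`, `q` a power of a prime `p ≥ 5`.
-/

set_option autoImplicit false
set_option linter.unusedSectionVars false
set_option linter.style.haveILetI false
set_option linter.unusedSimpArgs false

namespace CfsgLib.IsolatedRankOne.Unitary

open Matrix Cfsg
open CfsgLib.Classical.Herm
open CfsgLib.ClassicalAut (Unitary.Conj Unitary.herm_apply)
open CfsgLib.Classical.URegGen (HB exists_hb expand₁ ext₁)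
open CfsgLib.ModuleIndex.UThree (mk mat card_SU_three)
open CfsgLib.Classical.UThreeSylow (root)

variable {F : Type*} [Field F] [Finite F] {q : ℕ} (K : Unitary.Conj F q) {p : ℕ} [hp : Fact p.Prime]

local notation "H" => hermForm 3 F q

variable (B : HB 1 3 q F)

include K in
theorem ef : H (B.E 0) (B.Fv 0) = 1 := by
  rw [h_swap K, B.fe 0 0 one_pos one_pos, if_pos rfl, map_one]

include K in
theorem ez : H (B.E 0) B.z = 0 := h_eq_zero_symm K (B.ze 0)

/-- The basis with the two isotropic vectors exchanged. -/
noncomputable def swap : HB 1 3 q F where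
  E := fun _ => B.Fv 0
  Fv := fun _ => B.E 0
  z := B.z
  ee := fun _ _ => B.ff _ _
  ff := fun _ _ => B.ee _ _
  fe := fun i j hi hj => by rw [if_pos (by omega : i = j)]; exact ef K B
  ze := fun _ => B.zf 0
  zf := fun _ => B.ze 0
  zz := B.zz
  perp := fun x h hz => B.perp x (fun j hj => by
    obtain rfl : j = 0 := by omega
    exact ⟨(h 0 one_pos).2, (h 0 one_pos).1⟩) hz

include K in
theorem isotropic_perp {v : Fin 3 → F} (hv : H v v = 0) (hve : H v (B.E 0) = 0) :
    v = H v (B.Fv 0) • B.E 0 := by
  have he := expand₁ K B v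
  rw [hve, zero_smul, add_zero] at he
  set α := H v (B.Fv 0)
  set γ := H v B.z
  have h := hv
  rw [he, h_add_left K, h_add_right K, h_add_right K, h_smul_left K, h_smul_left K,
    h_smul_right K, h_smul_right K, B.ee, ez K B, h_smul_left K, h_smul_right K, B.ze, h_smul_left K,
    h_smul_right K, B.zz] at h
  have hg : γ = 0 := by simpa using h
  rw [he, hg, zero_smul, add_zero]

include K in
/-- The torus element acting as `-2` on the first isotropic vector. -/
theorem exists_torus [CharP F p] (h5 : 5 ≤ p) : ∃ t : SU 3 F q, app t (B.E 0) = (-2 : F) • B.E 0 ∧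
    app t (B.Fv 0) = (-(2 : F)⁻¹) • B.Fv 0 ∧ app t B.z = B.z := by
  have h2 : (2 : F) ≠ 0 := fun h => by
    have h' : ((2 : ℕ) : F) = 0 := by exact_mod_cast h
    have := Nat.le_of_dvd two_pos ((CharP.cast_eq_zero_iff F p 2).mp h')
    omega
  obtain ⟨y, hy⟩ := K.exists_trace
  -- a nonzero element of trace zero
  obtain ⟨c, hc, hcc⟩ : ∃ c : F, c ≠ 0 ∧ K.bar c = -c := by
    by_cases hall : ∀ x : F, K.bar x = x
    · exfalso
      have hq : ∀ x : F, x ^ q = x := fun x => by rw [← K.bar_apply, hall]
      classical
      cases nonempty_fintype F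
      have h1 := FiniteField.card_le_card_of_pow_eq (q := q) K hq
      omega
    · push Not at hall
      obtain ⟨x, hx⟩ := hall
      exact ⟨x - K.bar x, sub_ne_zero.mpr (Ne.symm hx), by rw [map_sub, K.bar_bar]; ring⟩
  obtain ⟨m, hm1, hm2, hm3⟩ := CfsgLib.Classical.URegGen.exists_mono K B le_rfl (a := 0)
    (mul_ne_zero h2 hc) (by rw [map_mul, hcc, map_ofNat]; ring)
  obtain ⟨n, hn1, hn2, hn3⟩ := CfsgLib.Classical.URegGen.exists_mono K B le_rfl (a := 0) hc
    (by rw [hcc]; ring)
  refine ⟨m * n, ?_, ?_, ?_⟩
  · rw [app_mul, hn1, app_smul, hm2, smul_smul, hcc]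
    congr 1
    field_simp
  · rw [app_mul, hn2, app_smul, hm1, smul_smul, map_mul, hcc, map_ofNat]
    congr 1
    field_simp
  · rw [app_mul, hn3, app_smul, hm3, smul_smul, map_mul, hcc, map_ofNat]
    rw [show -(-c / c) * -(2 * -c / (2 * c)) = (1 : F) by field_simp, one_smul]
where
  FiniteField.card_le_card_of_pow_eq {F : Type _} [Field F] [Fintype F] {q : ℕ} (K : Unitary.Conj F q)
      (h : ∀ x : F, x ^ q = x) : False := by
    classical
    have h2 := K.two_le
    have hle : (Finset.univ : Finset F).card ≤ (Polynomial.X ^ q - Polynomial.X : Polynomial F).natDegree := by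
      refine Polynomial.card_le_degree_of_subset_roots fun x _ => ?_
      rw [Polynomial.mem_roots (FiniteField.X_pow_card_sub_X_ne_zero F h2)]
      simp [h x]
    rw [FiniteField.X_pow_card_sub_X_natDegree_eq F h2, Finset.card_univ, ← Nat.card_eq_fintype_card,
      K.card] at hle
    nlinarith

include K in
theorem root_eq_of_line [CharP F p] (hp2 : p ≠ 2) {n : ℕ} (hq : q = p ^ n) (hn : n ≠ 0) {g : SU 3 F q}
    {l : F} (B' : HB 1 3 q F) (hl : app g (B.E 0) = l • B'.E 0) :
    (root B).map (MulAut.conj g).toMonoidHom = root B' := by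
  have hl0 : l ≠ 0 := by
    rintro rfl
    have := congrArg (app g⁻¹) hl
    rw [app_inv, zero_smul, Classical.URegGen.app_zero] at this
    exact Classical.UThreeSylow.E_ne K B this
  have hle : (root B).map (MulAut.conj g).toMonoidHom ≤ root B' := by
    rintro _ ⟨u, hu, rfl⟩
    obtain ⟨k, hk⟩ := (Classical.UThreeSylow.isPGroup_root K B hp2).map (MulAut.conj g).toMonoidHom
      ⟨_, u, hu, rfl⟩
    refine Classical.UThreeSylow.mem_root K B' (i := k) (congrArg Subtype.val hk) (l := 1) ?_
    show app (g * u * g⁻¹) (B'.E 0) = _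
    have e : B'.E 0 = l⁻¹ • app g (B.E 0) := by rw [hl, smul_smul, inv_mul_cancel₀ hl0, one_smul]
    rw [one_smul]
    conv_lhs => rw [e, app_smul, app_mul, app_mul, app_inv, hu.1, ← e]
  let P : Sylow p (SU 3 F q) :=
    ((Classical.UThreeSylow.isPGroup_root K B hp2).map (MulAut.conj g).toMonoidHom).toSylow (by
      have h1 := Subgroup.index_mul_card ((root B).map (MulAut.conj g).toMonoidHom)
      rw [Subgroup.card_map_of_injective (MulEquiv.injective _), ← Subgroup.index_mul_card (root B)] at h1
      rw [Nat.eq_of_mul_eq_mul_right Nat.card_pos h1]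
      exact Classical.UThreeSylow.card_root K B hp2 hq hn)
  exact (P.3 (Classical.UThreeSylow.isPGroup_root K B' hp2) hle).symm

include K in
/-- An element normalizing the root group stabilizes the isotropic line. -/
theorem line_of_mem_normalizer [CharP F p] (hp2 : p ≠ 2) (hne : root B ≠ ⊥) {x : SU 3 F q}
    (hx : x ∈ Subgroup.normalizer (root B : Set (SU 3 F q))) : ∃ l : F, app x (B.E 0) = l • B.E 0 := by
  obtain ⟨u, hu, hu1⟩ := (Subgroup.bot_or_exists_ne_one (root B)).resolve_left hne
  have hv : H (app x (B.E 0)) (app x (B.E 0)) = 0 := by rw [h_app, B.ee]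
  have hm : x⁻¹ * u * x ∈ root B := by
    have := (Subgroup.mem_normalizer_iff.mp (inv_mem hx) u).mp hu
    rwa [inv_inv] at this
  refine ⟨_, Classical.UThreeSylow.fixed_line K B hu hu1 hv ?_⟩
  have h := hm.1
  rw [app_mul, app_mul] at h
  have := congrArg (app x) h
  rwa [app_inv'] at this

include K in
/-- An element fixing the isotropic vector lies in the root group. -/
theorem mem_root_of_fix {x : SU 3 F q} (hx : app x (B.E 0) = B.E 0) : x ∈ root B := by
  classical
  refine ⟨hx, H (app x B.z) (B.Fv 0), ?_⟩
  set a := H (app x B.z) (B.Fv 0)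
  set μ := H (app x B.z) B.z
  have hz : app x B.z = a • B.E 0 + μ • B.z := by
    have h : H (app x B.z) (B.E 0) = 0 := by
      conv_lhs => arg 5; rw [← hx]
      rw [h_app, B.ze]
    conv_lhs => rw [expand₁ K B (app x B.z)]
    rw [h, zero_smul, add_zero]
  have hf := Classical.UThreeSylow.app_F K B hx
  set d := H (app x (B.Fv 0)) (B.Fv 0)
  set c := H (app x (B.Fv 0)) B.z
  let P : Matrix (Fin 3) (Fin 3) F := Matrix.of fun i j => (![B.E 0, B.z, B.Fv 0] j) i
  have hP : ∀ v : Fin 3 → F, P *ᵥ v = v 0 • B.E 0 + v 1 • B.z + v 2 • B.Fv 0 := by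
    intro v
    ext i
    simp [P, Matrix.mulVec, dotProduct, Fin.sum_univ_three]
    ring
  have hPinj : Function.Injective P.mulVec := by
    intro v w hvw
    have h : P *ᵥ (v - w) = 0 := by rw [Matrix.mulVec_sub, hvw, sub_self]
    rw [hP] at h
    have h1 := congrArg (fun y => H y (B.Fv 0)) h
    have h2 := congrArg (fun y => H y B.z) h
    have h3 := congrArg (fun y => H y (B.E 0)) h
    simp only [h_add_left K, h_smul_left K, h_zero_left K, ef K B, ez K B, B.ff, B.fz K, B.zf, B.zz, B.ee, B.ze,
      B.fe 0 0 one_pos one_pos, if_pos, mul_one, mul_zero, add_zero, zero_add] at h1 h2 h3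
    ext i
    fin_cases i
    · simpa [sub_eq_zero] using h1
    · simpa [sub_eq_zero] using h2
    · simpa [sub_eq_zero] using h3
  have hdet : P.det ≠ 0 := ((Matrix.isUnit_iff_isUnit_det P).mp (Matrix.mulVec_injective_iff_isUnit.mp hPinj)).ne_zero
  let T : Matrix (Fin 3) (Fin 3) F := !![1, a, d; 0, μ, c; 0, 0, 1]
  have hMT : (x.1 : Matrix (Fin 3) (Fin 3) F) * P = P * T := by
    refine Matrix.ext_of_mulVec_single fun j => ?_
    rw [← Matrix.mulVec_mulVec, ← Matrix.mulVec_mulVec, hP]
    show app x _ = _
    rw [app_add, app_add, app_smul, app_smul, app_smul, hx, hz, hf, hP]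
    fin_cases j <;> simp [T, Matrix.mulVec, dotProduct, Fin.sum_univ_three] <;> abel
  have h := congrArg Matrix.det hMT
  rw [Matrix.det_mul, Matrix.det_mul, show (x.1 : Matrix (Fin 3) (Fin 3) F).det = 1 from x.1.2, one_mul] at h
  have hT : T.det = μ := by simp [T, Matrix.det_fin_three]
  rw [hT] at h
  have hμ : μ = 1 := mul_left_cancel₀ hdet (h.symm.trans (mul_one _).symm)
  rw [hz, hμ, one_smul, add_comm]

/-- Rank one data for `SU(3, q)`. -/
noncomputable def data [CharP F p] (h5 : 5 ≤ p) {n : ℕ} (hq : q = p ^ n) (hn : n ≠ 0) :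
    Data p (SU 3 F q) := by
  classical
  have hp2 : p ≠ 2 := by omega
  have h32 : ¬ (3 = 3 ∧ q = 2) := fun h => by
    have : p ∣ 2 := h.2 ▸ hq ▸ dvd_pow_self p hn
    have := Nat.le_of_dvd two_pos this
    omega
  haveI : Fact p.Prime := hp
  have hperf : commutator (SU 3 F q) = ⊤ := Classical.Herm.commutator_eq_top K p le_rfl h32
  have hsimple : IsSimpleGroup (SU 3 F q ⧸ Subgroup.center (SU 3 F q)) :=
    Classical.Herm.isSimpleGroup K p le_rfl h32
  have hidx : ¬ p ∣ (root B).index := Classical.UThreeSylow.card_root K B hp2 hq hn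
  have hne : root B ≠ ⊥ := fun h => by
    refine hidx ?_
    rw [h, Subgroup.index_bot, card_SU_three K, hq]
    exact (dvd_pow (dvd_pow_self p hn) three_ne_zero).mul_right _
  set B' := swap K B
  have hinter : root B ⊓ root B' = ⊥ := by
    rw [eq_bot_iff]
    rintro x ⟨hx, hx'⟩
    refine Subgroup.mem_bot.mpr (by_contra fun h1 => ?_)
    have h := Classical.UThreeSylow.fixed_line K B hx h1 (B.ff 0 0) hx'.1
    rw [B.ff, zero_smul] at h
    have := ef K B
    rw [h, h_zero_right K] at this
    exact zero_ne_one this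
  have hw : ∃ w : SU 3 F q, (root B).map (MulAut.conj w).toMonoidHom = root B' := by
    obtain ⟨y, hy⟩ := K.exists_trace
    have hb : y - K.bar y + 0 = 0 → True := fun _ => trivial
    obtain ⟨c, hc, hcc⟩ : ∃ c : F, c ≠ 0 ∧ 0 * K.bar 0 + c + K.bar c = 0 := by
      by_cases hall : ∀ x : F, K.bar x = x
      · exfalso
        cases nonempty_fintype F
        exact exists_torus.FiniteField.card_le_card_of_pow_eq K (fun x => by rw [← K.bar_apply, hall])
      · push Not at hall
        obtain ⟨x, hx⟩ := hall
        exact ⟨x - K.bar x, sub_ne_zero.mpr (Ne.symm hx), by rw [map_sub, K.bar_bar]; ring⟩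
    obtain ⟨w, hw, -, -⟩ := Classical.URegGen.exists_mono K B le_rfl (a := 0) hc hcc
    exact ⟨w, root_eq_of_line K B hp2 hq hn B' hw⟩
  set t := Classical.choose (exists_torus K B (p := p) h5)
  have ht1 : app t (B.E 0) = (-2 : F) • B.E 0 := (Classical.choose_spec (exists_torus K B (p := p) h5)).1
  have ht2 : app t (B.Fv 0) = (-(2 : F)⁻¹) • B.Fv 0 :=
    (Classical.choose_spec (exists_torus K B (p := p) h5)).2.1
  have ht3 : app t B.z = B.z := (Classical.choose_spec (exists_torus K B (p := p) h5)).2.2
  exact
  { U := root B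
    U₀ := root B'
    t := t
    isP := Classical.UThreeSylow.isPGroup_root K B hp2
    index := hidx
    nontriv := hne
    inter := hinter
    conj₀ := hw.imp fun w h => h.symm
    trans := fun g => by
      set v := app g (B.E 0) with hv
      have hvv : H v v = 0 := by rw [hv, h_app, B.ee]
      by_cases hve : H v (B.E 0) = 0
      · exact Or.inl (root_eq_of_line K B hp2 hq hn B (isotropic_perp K B hvv hve))
      · refine Or.inr ?_
        set β := H v (B.E 0)
        set w := β⁻¹ • v with hwd
        have hwe : H w (B.E 0) = 1 := by rw [hwd, h_smul_left K, inv_mul_cancel₀ hve]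
        have hww : H w w = 0 := by rw [hwd, h_smul_left K, h_smul_right K, hvv, mul_zero, mul_zero]
        have hexp := expand₁ K B w
        rw [hwe, one_smul] at hexp
        set α := H w (B.Fv 0)
        set γ := H w B.z
        have hcond : (-K.bar γ) * K.bar (-K.bar γ) + α + K.bar α = 0 := by
          have h := hww
          rw [hexp, h_add_left K, h_add_left K, h_smul_left K, h_smul_left K, h_add_right K, h_add_right K,
            h_add_right K, h_add_right K, h_add_right K, h_add_right K, h_smul_right K, h_smul_right K,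
            h_smul_right K, h_smul_right K, h_smul_right K, h_smul_right K, B.ee, B.ff, B.zz, ef K B, ez K B,
            B.ze, B.zf, B.fz K, B.fe 0 0 one_pos one_pos, if_pos rfl] at h
          rw [map_neg, K.bar_bar]
          linear_combination h
        obtain ⟨u, hu⟩ := Classical.URegGen.exists_sgE K B le_rfl hcond
        obtain ⟨hue, huf, huz⟩ := Classical.URegGen.appE K B hu
        refine ⟨u, mem_root_of_fix K B hue, ?_⟩
        have hline : app (u⁻¹ * g) (B.E 0) = β • B'.E 0 := by
          rw [app_mul, ← hv]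
          have e : v = β • app u (B.Fv 0) := by
            rw [huf, map_neg, K.bar_bar, neg_smul, sub_neg_eq_add,
              show B.Fv 0 + γ • B.z + α • B.E 0 = w by rw [hexp]; abel, hwd, smul_smul,
              mul_inv_cancel₀ hve, one_smul]
          rw [e, app_smul, app_inv]
          rfl
        rw [← root_eq_of_line K B hp2 hq hn B' hline, ← map_conj_mul, mul_inv_cancel_left]
    htU := mem_normalizer_iff_map.mpr (root_eq_of_line K B hp2 hq hn B ht1)
    htU₀ := mem_normalizer_iff_map.mpr (root_eq_of_line K B' hp2 hq hn B' ht2)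
    htp := by
      have h2 : (-2 : F) ^ (p - 1) = 1 := by
        have h : ((-2 : ZMod p)) ^ (p - 1) = 1 := ZMod.pow_card_sub_one_eq_one (by
          intro h0
          have h' : ((2 : ℕ) : ZMod p) = 0 := by simpa using h0
          have := Nat.le_of_dvd two_pos ((ZMod.natCast_eq_zero_iff 2 p).mp h')
          omega)
        have h' := congrArg (ZMod.castHom (dvd_refl p) F) h
        rwa [map_pow, map_neg, map_ofNat, map_one] at h'
      have hpow : ∀ m : ℕ, app (t ^ m) (B.E 0) = (-2 : F) ^ m • B.E 0 ∧
          app (t ^ m) (B.Fv 0) = (-(2 : F)⁻¹) ^ m • B.Fv 0 ∧ app (t ^ m) B.z = B.z := by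
        intro m
        induction m with
        | zero => simp [app_one]
        | succ m ih =>
          obtain ⟨i1, i2, i3⟩ := ih
          refine ⟨?_, ?_, ?_⟩
          · rw [pow_succ, app_mul, ht1, app_smul, i1, smul_smul, pow_succ, mul_comm]
          · rw [pow_succ, app_mul, ht2, app_smul, i2, smul_smul, pow_succ, mul_comm]
          · rw [pow_succ, app_mul, ht3, i3]
      obtain ⟨e1, e2, e3⟩ := hpow (p - 1)
      refine ext₁ K B ?_ ?_ ?_
      · rw [app_one, e1, h2, one_smul]
      · rw [app_one, e2, show (-(2 : F)⁻¹) = (-2 : F)⁻¹ by rw [inv_neg], inv_pow, h2, inv_one, one_smul]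
      · rw [app_one, e3]
    free := fun u hu hcom => by
      have h3 : (3 : F) ≠ 0 := fun h => by
        have h' : ((3 : ℕ) : F) = 0 := by exact_mod_cast h
        have := Nat.le_of_dvd three_pos ((CharP.cast_eq_zero_iff F p 3).mp h')
        omega
      have h2 : (2 : F) ≠ 0 := fun h => by
        have h' : ((2 : ℕ) : F) = 0 := by exact_mod_cast h
        have := Nat.le_of_dvd two_pos ((CharP.cast_eq_zero_iff F p 2).mp h')
        omega
      have hE : ∀ {r s : F}, r • B.E 0 = s • B.E 0 → r = s := fun h =>
        smul_left_injective F (Classical.UThreeSylow.E_ne K B) h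
      obtain ⟨hue, a, huz⟩ := hu
      have ha : a = 0 := by
        have h := congrArg (fun g => app g B.z) hcom
        simp only [app_mul, huz, ht3, app_add, app_smul, ht1, smul_smul, add_right_inj] at h
        have h' := hE h
        exact (mul_eq_zero.mp (show (3 : F) * a = 0 by linear_combination -h')).resolve_left h3
      have hf := Classical.UThreeSylow.app_F K B hue
      set d := H (app u (B.Fv 0)) (B.Fv 0)
      set c := H (app u (B.Fv 0)) B.z
      have h := congrArg (fun g => app g (B.Fv 0)) hcom
      simp only [app_mul, hf, ht2, app_add, app_smul, ht1, ht3, smul_add, smul_smul] at h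
      have hd := congrArg (fun y => H y (B.Fv 0)) h
      have hc := congrArg (fun y => H y B.z) h
      simp only [h_add_left K, h_smul_left K, ef K B, ez K B, B.ff, B.fz K, B.zf, B.zz, mul_one, mul_zero,
        add_zero, zero_add] at hd hc
      field_simp at hd hc
      have hd0 : d = 0 := (mul_eq_zero.mp (show (3 : F) * d = 0 by linear_combination -hd)).resolve_left h3
      have hc0 : c = 0 := (mul_eq_zero.mp (show (3 : F) * c = 0 by linear_combination hc)).resolve_left h3
      refine ext₁ K B (by rw [hue, app_one]) ?_ ?_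
      · rw [hf, hd0, hc0, app_one, zero_smul, zero_smul, zero_add, add_zero]
      · rw [huz, ha, app_one, zero_smul, add_zero]
    cyc := by
      have hline : ∀ x ∈ Subgroup.normalizer (root B : Set (SU 3 F q)), ∃ l : Fˣ, app x (B.E 0) = (l : F) • B.E 0 := by
        intro x hx
        obtain ⟨l, hl⟩ := line_of_mem_normalizer K B hp2 hne hx
        refine ⟨Units.mk0 l fun h => ?_, hl⟩
        rw [h, zero_smul] at hl
        have := congrArg (app x⁻¹) hl
        rw [app_inv, Classical.URegGen.app_zero] at this
        exact Classical.UThreeSylow.E_ne K B this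
      let χ : ↥(Subgroup.normalizer (root B : Set (SU 3 F q))) →* Fˣ :=
        MonoidHom.mk' (fun x => Classical.choose (hline x x.2)) fun x y => Units.ext (by
          refine smul_left_injective F (Classical.UThreeSylow.E_ne K B) ?_
          show ((Classical.choose (hline (x * y : SU 3 F q) (x * y).2) : Fˣ) : F) • B.E 0 = _
          have hxy := Classical.choose_spec (hline (x * y : SU 3 F q) (x * y).2)
          have hx' := Classical.choose_spec (hline x x.2)
          have hy' := Classical.choose_spec (hline y y.2)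
          generalize Classical.choose (hline (x * y : SU 3 F q) (x * y).2) = lxy at hxy ⊢
          generalize Classical.choose (hline x x.2) = lx at hx' ⊢
          generalize Classical.choose (hline y y.2) = ly at hy' ⊢
          show (lxy : F) • B.E 0 = ((lx * ly : Fˣ) : F) • B.E 0
          rw [← hxy, app_mul, hy', app_smul, hx', smul_smul, Units.val_mul, mul_comm])
      obtain ⟨⟨_, g₀, rfl⟩, hgen⟩ := IsCyclic.exists_generator (α := χ.range)
      refine ⟨g₀, g₀.2, fun x hx => ?_⟩
      obtain ⟨k, hk⟩ := hgen ⟨χ ⟨x, hx⟩, _, rfl⟩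
      have hk' : χ g₀ ^ k = χ ⟨x, hx⟩ := congrArg Subtype.val hk
      set y : ↥(Subgroup.normalizer (root B : Set (SU 3 F q))) := (g₀ ^ k)⁻¹ * ⟨x, hx⟩ with hy
      have h1 : χ y = 1 := by rw [hy, map_mul, map_inv, map_zpow, hk', inv_mul_cancel]
      refine ⟨k, (y : SU 3 F q), mem_root_of_fix K B ?_, ?_⟩
      · have h := Classical.choose_spec (hline y y.2)
        have h2 : Classical.choose (hline y y.2) = 1 := h1
        rw [h2, Units.val_one, one_smul] at h
        exact h
      · rw [hy]
        simp
    perfect := hperf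
    gen := gen_of_simple hperf hsimple hne hinter hw.choose_spec.symm }

end CfsgLib.IsolatedRankOne.Unitary
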