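import Cfsg.Agent.Lib.IsolatedRankOne.Linear
import Cfsg.Agent.Lib.IsolatedRankOne.Unitary
import Cfsg.Agent.Lib.Transfer.Basic
import Cfsg.Agent.Lib.ZJ.RealElements
import Cfsg.Agent.Lib.Fitting.Basic
import Cfsg.Prelude.Def_Classical

/-!
A central `p`-element of the Sylow normalizer lies in the core of a subgroup of rank one over it.
-/

set_option autoImplicit false
set_option linter.unusedSectionVars false
set_option linter.style.haveILetI false

namespace CfsgLib.IsolatedRankOne

open scoped commutatorElement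

/-- An element of a finite group with a normal subgroup `K` carrying rank one data, commuting with
a Sylow `p`-subgroup and its normalizer, is trivial when the `p`-core is trivial. -/
theorem eq_one_of_commute {Q : Type*} [Group Q] [Finite Q] {p : ℕ} [Fact p.Prime] (hO : Cfsg.pCore p Q = ⊥)
    (K : Subgroup Q) [K.Normal] (hQK : IsPGroup p (Q ⧸ K)) (D₀ : Data p ↥K) (S : Sylow p Q) {z : Q}
    (hzS : z ∈ (S : Subgroup Q))
    (hz : ∀ x ∈ Subgroup.normalizer ((S : Subgroup Q) : Set Q), x * z = z * x) : z = 1 := by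
  classical
  haveI : Fintype ↥K := Fintype.ofFinite _
  -- move the Sylow subgroup of the data into `S`
  obtain ⟨D, hD⟩ : ∃ D : Data p ↥K, D.U.map K.subtype ≤ (S : Subgroup Q) := by
    obtain ⟨R, hR⟩ := (D₀.isP.map K.subtype).exists_le_sylow
    obtain ⟨g, hg⟩ := MulAction.exists_smul_eq Q R S
    let c : ↥K ≃* ↥K := MulAut.conjNormal g
    refine ⟨D₀.map c.toMonoidHom c.surjective (fun x hx => by
      have h : c x = c 1 := by rw [map_one]; exact hx
      rw [c.injective h]
      exact one_mem _), ?_⟩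
    rintro _ ⟨_, ⟨u, hu, rfl⟩, rfl⟩
    rw [← hg]
    exact ⟨(u : Q), hR ⟨u, hu, rfl⟩, rfl⟩
  haveI : Nonempty ↥K := ⟨1⟩
  have hSN : (S : Subgroup Q) ≤ Subgroup.normalizer ((S : Subgroup Q) : Set Q) := Subgroup.le_normalizer
  have hzSc : ∀ s ∈ (S : Subgroup Q), s * z = z * s := fun s hs => hz s (hSN hs)
  -- elements of `S` in `K` lie in `U`
  have hSK : ∀ k : ↥K, (k : Q) ∈ (S : Subgroup Q) → k ∈ D.U := by
    intro k hk
    have h : IsPGroup p ↥((S : Subgroup Q).subgroupOf K) :=
      S.isPGroup'.comap_of_injective K.subtype K.subtype_injective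
    have hle : D.U ≤ (S : Subgroup Q).subgroupOf K := fun u hu => hD ⟨u, hu, rfl⟩
    let R : Sylow p ↥K := D.isP.toSylow D.index
    have e := R.3 h hle
    change k ∈ (R : Subgroup ↥K)
    rw [← e]
    exact hk
  have hSU : ∀ s ∈ (S : Subgroup Q), ∀ u ∈ D.U, MulAut.conjNormal s u ∈ D.U := by
    intro s hs u hu
    exact hSK _ (by rw [MulAut.conjNormal_apply]; exact mul_mem (mul_mem hs (hD ⟨u, hu, rfl⟩)) (inv_mem hs))
  -- `S` fixes the coset of `t`
  obtain ⟨A, hA, hAall⟩ := D.ncard_le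
  set N := Subgroup.normalizer (D.U : Set ↥K)
  have hfix : ∀ s ∈ (S : Subgroup Q), D.t⁻¹ * MulAut.conjNormal s D.t ∈ D.U := by
    intro s hs
    haveI : (D.U.subgroupOf N).Normal := Subgroup.normal_subgroupOf_of_le_normalizer le_rfl
    set c : MulAut ↥K := MulAut.conjNormal s with hc
    have hcU : D.U.map (c : ↥K →* ↥K) = D.U := by
      refine Subgroup.eq_of_le_of_card_ge ?_ (Subgroup.card_map_of_injective c.injective).ge
      rintro _ ⟨u, hu, rfl⟩
      exact hSU s hs u hu
    -- the powers of `c` applied to `t`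
    have hpow : ∀ i : ℕ, (c ^ i) D.t ∈ N ∧ ((c ^ i) D.t) ^ (p - 1) ∈ D.U := by
      intro i
      have hc' : ∀ u ∈ D.U, (c ^ i) u ∈ D.U := by
        rw [hc, ← map_pow]
        exact hSU _ (pow_mem hs i)
      have hci : D.U.map ((c ^ i : MulAut ↥K) : ↥K →* ↥K) = D.U :=
        Subgroup.eq_of_le_of_card_ge (by rintro _ ⟨u, hu, rfl⟩; exact hc' u hu)
          (Subgroup.card_map_of_injective (c ^ i).injective).ge
      refine ⟨?_, ?_⟩
      · refine mem_normalizer_iff_map.mpr ?_
        conv_rhs => rw [← hci, ← mem_normalizer_iff_map.mp D.htU, Subgroup.map_map]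
        conv_lhs => rw [← hci, Subgroup.map_map]
        congr 1
        ext y
        simp
      · rw [← map_pow, D.htp, map_one]
        exact one_mem _
    choose a haA hau using fun i : ℕ => hAall _ (hpow i).1 (hpow i).2
    obtain ⟨i, hi, j, hj, hij, hlt⟩ : ∃ i ≤ A.card, ∃ j ≤ A.card, a i = a j ∧ i < j := by
      obtain ⟨i, hi, j, hj, hne, he⟩ := Finset.exists_ne_map_eq_of_card_lt_of_maps_to
        (s := Finset.range (A.card + 1)) (t := A) (by simp) (f := a) (fun i _ => haA i)
      simp only [Finset.mem_range] at hi hj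
      rcases lt_or_gt_of_ne hne with h | h
      · exact ⟨i, by omega, j, by omega, he, h⟩
      · exact ⟨j, by omega, i, by omega, he.symm, h⟩
    have hdiff : ((c ^ i) D.t)⁻¹ * (c ^ j) D.t ∈ D.U := by
      have := mul_mem (inv_mem (hau i)) (hau j)
      rw [hij] at this
      simpa [mul_assoc] using this
    -- the set of exponents fixing the coset is closed under addition
    have hadd : ∀ m n : ℕ, D.t⁻¹ * (c ^ m) D.t ∈ D.U → D.t⁻¹ * (c ^ n) D.t ∈ D.U →
        D.t⁻¹ * (c ^ (m + n)) D.t ∈ D.U := by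
      intro m n hm hn
      have h1 : (c ^ m) (D.t⁻¹ * (c ^ n) D.t) ∈ D.U := by
        rw [hc, ← map_pow]
        exact hSU _ (pow_mem hs m) _ (by rw [← hc]; exact hn)
      have h2 := mul_mem hm h1
      rw [map_mul, map_inv, ← MulAut.mul_apply, ← pow_add, mul_assoc, mul_inv_cancel_left] at h2
      exact h2
    have hd : D.t⁻¹ * (c ^ (j - i)) D.t ∈ D.U := by
      have h1 : (c ^ i)⁻¹ (((c ^ i) D.t)⁻¹ * (c ^ j) D.t) ∈ D.U := by
        rw [hc, ← map_pow, ← map_inv]
        exact hSU _ (inv_mem (pow_mem hs i)) _ (by rw [map_pow, ← hc]; exact hdiff)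
      rw [map_mul, map_inv] at h1
      rwa [← MulAut.mul_apply, ← MulAut.mul_apply, inv_mul_cancel, MulAut.one_apply,
        show c ^ j = c ^ i * c ^ (j - i) by rw [← pow_add]; congr 1; omega, inv_mul_cancel_left] at h1
    obtain ⟨k, hk⟩ := S.isPGroup' ⟨s, hs⟩
    have hsk : s ^ p ^ (k + 1) = 1 := by
      rw [pow_succ, pow_mul, show s ^ p ^ k = 1 from congrArg Subtype.val hk, one_pow]
    have hmul : ∀ e : ℕ, D.t⁻¹ * (c ^ ((j - i) * e)) D.t ∈ D.U := by
      intro e
      induction e with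
      | zero => simp
      | succ e ih => rw [mul_add, mul_one]; exact hadd _ _ ih hd
    have hcop : (j - i).Coprime (p ^ (k + 1)) := by
      refine Nat.Coprime.pow_right (k + 1) (Nat.Coprime.symm ((Nat.Prime.coprime_iff_not_dvd Fact.out).mpr fun h => ?_))
      have := Nat.le_of_dvd (by omega) h
      omega
    obtain ⟨e, he⟩ := Nat.exists_mul_mod_eq_one_of_coprime hcop
      (Nat.one_lt_pow k.succ_ne_zero (Fact.out : p.Prime).one_lt)
    have hfinal := hmul e
    have hcpow : c ^ ((j - i) * e) = c := by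
      rw [← Nat.div_add_mod ((j - i) * e) (p ^ (k + 1)), he.2, pow_add, pow_mul, hc, ← map_pow, hsk, map_one,
        one_pow, one_mul, pow_one]
    rwa [hcpow] at hfinal
  -- `t` normalizes `S`
  have htS : (D.t : Q) ∈ Subgroup.normalizer ((S : Subgroup Q) : Set Q) := by
    have hle : (S : Subgroup Q).map (MulAut.conj ((D.t : Q))⁻¹).toMonoidHom ≤ (S : Subgroup Q) := by
      rintro _ ⟨s, hs, rfl⟩
      have h := hD ⟨_, hfix s hs, rfl⟩
      simp only [Subgroup.coe_subtype, Subgroup.coe_mul, Subgroup.coe_inv, MulAut.conjNormal_apply] at h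
      have h2 := mul_mem h hs
      show (D.t : Q)⁻¹ * s * (D.t : Q)⁻¹⁻¹ ∈ (S : Subgroup Q)
      have e : (D.t : Q)⁻¹ * s * (D.t : Q)⁻¹⁻¹ = (D.t : Q)⁻¹ * (s * (D.t : Q) * s⁻¹) * s := by group
      rw [e]
      exact h2
    have heq := Subgroup.eq_of_le_of_card_ge hle (Subgroup.card_map_of_injective (MulEquiv.injective _)).ge
    have := mem_normalizer_iff_map.mpr heq
    simpa using inv_mem this
  -- `z` centralizes `K`
  have hzK : ∀ k : ↥K, MulAut.conjNormal z k = k := by
    refine D.rigid (MulAut.conjNormal z) (fun u hu => Subtype.ext ?_) (Subtype.ext ?_)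
    · rw [MulAut.conjNormal_apply]
      exact mul_inv_eq_iff_eq_mul.mpr (hzSc _ (hD ⟨u, hu, rfl⟩)).symm
    · rw [MulAut.conjNormal_apply]
      exact mul_inv_eq_iff_eq_mul.mpr (hz _ htS).symm
  -- the centralizer of `K` has no nontrivial `p`-elements
  set M := Subgroup.centralizer (K : Set Q) with hM
  have hzM : z ∈ M := Subgroup.mem_centralizer_iff.mpr fun k hk => by
    have h := congrArg Subtype.val (hzK ⟨k, hk⟩)
    rw [MulAut.conjNormal_apply] at h
    exact (mul_inv_eq_iff_eq_mul.mp h).symm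
  haveI hMn : M.Normal := by rw [hM]; infer_instance
  have hker : ((QuotientGroup.mk' K).comp M.subtype).ker ≤ Subgroup.center ↥M := by
    intro x hx
    have hxK : (x : Q) ∈ K := (QuotientGroup.eq_one_iff _).mp hx
    exact Subgroup.mem_center_iff.mpr fun y =>
      Subtype.ext ((Subgroup.mem_centralizer_iff.mp y.2) x hxK).symm
  haveI hMnil : Group.IsNilpotent ↥M := by
    haveI : Group.IsNilpotent ↥((QuotientGroup.mk' K).comp M.subtype).range :=
      (hQK.to_subgroup _).isNilpotent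
    exact isNilpotent_of_ker_le_center ((QuotientGroup.mk' K).comp M.subtype).rangeRestrict
      (by rwa [MonoidHom.ker_rangeRestrict])
  have hzp : IsPGroup p ↥(Subgroup.zpowers (⟨z, hzM⟩ : ↥M)) := by
    have h := (S.isPGroup'.to_le (Subgroup.zpowers_le.mpr hzS)).comap_of_injective M.subtype M.subtype_injective
    refine h.to_le (Subgroup.zpowers_le.mpr ?_)
    exact Subgroup.mem_comap.mpr (Subgroup.mem_zpowers z)
  obtain ⟨R, hR⟩ := hzp.exists_le_sylow
  haveI : (R : Subgroup ↥M).Normal :=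
    R.normal_of_normalizerCondition Group.normalizerCondition_of_isNilpotent
  haveI : (R : Subgroup ↥M).Characteristic := R.characteristic_of_normal inferInstance
  haveI : ((R : Subgroup ↥M).map M.subtype).Normal := ConjAct.normal_of_characteristic_of_normal
  have hle := CfsgLib.Fitting.le_pCore (p := p) (N := (R : Subgroup ↥M).map M.subtype) inferInstance
    (R.isPGroup'.map _)
  have hmem : z ∈ (R : Subgroup ↥M).map M.subtype := ⟨_, hR (Subgroup.mem_zpowers _), rfl⟩
  exact Subgroup.mem_bot.mp (hO ▸ hle hmem)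

/-- Rank one data for the four groups of the hypothesis. -/
theorem exists_data {p : ℕ} [Fact p.Prime] (hp : 5 ≤ p) {X : Type*} [Group X]
    (h : ∃ (F : Type) (_ : Field F) (_ : Fintype F) (a : ℕ), 1 ≤ a ∧
      ((Fintype.card F = p ^ a ∧ (Nonempty (X ≃* Matrix.SpecialLinearGroup (Fin 2) F) ∨
                                  Nonempty (X ≃* Matrix.ProjectiveSpecialLinearGroup (Fin 2) F))) ∨
       (Fintype.card F = p ^ (2 * a) ∧ (Nonempty (X ≃* ↥(Cfsg.SU 3 F (p ^ a))) ∨
                                        Nonempty (X ≃* Cfsg.PSU 3 F (p ^ a)))))) :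
    Nonempty (Data p X) := by
  classical
  obtain ⟨F, _, _, a, ha, (⟨hF, hiso⟩ | ⟨hF, hiso⟩)⟩ := h
  · haveI : CharP F p := charP_of_card_eq_prime_pow (f := a) hF
    let D := Linear.data hp ha hF
    rcases hiso with ⟨⟨e⟩⟩ | ⟨⟨e⟩⟩
    · exact ⟨D.map e.symm.toMonoidHom e.symm.surjective (fun x hx => by
        have h : e.symm x = e.symm 1 := by rw [map_one]; exact hx
        rw [e.symm.injective h]; exact one_mem _)⟩
    · exact ⟨D.map (e.symm.toMonoidHom.comp (QuotientGroup.mk' _))
        (e.symm.surjective.comp (QuotientGroup.mk'_surjective _)) (fun x hx => by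
          have h : e.symm (QuotientGroup.mk' _ x) = e.symm 1 := by rw [map_one]; exact hx
          exact (QuotientGroup.eq_one_iff x).mp (e.symm.injective h))⟩
  · haveI : CharP F p := charP_of_card_eq_prime_pow (f := 2 * a) hF
    obtain ⟨K⟩ := CfsgLib.ClassicalAut.Unitary.exists_conj (F := F) (p := p) (f := a) (q := p ^ a) rfl
      (by rw [Nat.card_eq_fintype_card, hF, ← pow_mul, mul_comm])
    obtain ⟨B⟩ := CfsgLib.Classical.URegGen.exists_hb K 1
    let D := Unitary.data (p := p) K B hp rfl (show a ≠ 0 by omega)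
    rcases hiso with ⟨⟨e⟩⟩ | ⟨⟨e⟩⟩
    · exact ⟨D.map e.symm.toMonoidHom e.symm.surjective (fun x hx => by
        have h : e.symm x = e.symm 1 := by rw [map_one]; exact hx
        rw [e.symm.injective h]; exact one_mem _)⟩
    · exact ⟨D.map (e.symm.toMonoidHom.comp (QuotientGroup.mk' _))
        (e.symm.surjective.comp (QuotientGroup.mk'_surjective _)) (fun x hx => by
          have h : e.symm (QuotientGroup.mk' _ x) = e.symm 1 := by rw [map_one]; exact hx
          exact (QuotientGroup.eq_one_iff x).mp (e.symm.injective h))⟩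

/-- **The central elements of the Sylow normalizer lie in the core of a rank one subgroup.** -/
theorem mem_pCore {G : Type*} [Group G] [Finite G] {p : ℕ} [Fact p.Prime] (hp : 5 ≤ p)
    (S : Sylow p G) (P : Subgroup G) (hSP : (S : Subgroup G) ≤ P) [hn : (Cfsg.pCore p ↥P).Normal]
    (hrk : ∃ (F : Type) (_ : Field F) (_ : Fintype F) (a : ℕ), 1 ≤ a ∧
      ((Fintype.card F = p ^ a ∧ (Nonempty (↥(Cfsg.pResidual p (↥P ⧸ Cfsg.pCore p ↥P)) ≃* Matrix.SpecialLinearGroup (Fin 2) F) ∨
                                  Nonempty (↥(Cfsg.pResidual p (↥P ⧸ Cfsg.pCore p ↥P)) ≃* Matrix.ProjectiveSpecialLinearGroup (Fin 2) F))) ∨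
       (Fintype.card F = p ^ (2 * a) ∧ (Nonempty (↥(Cfsg.pResidual p (↥P ⧸ Cfsg.pCore p ↥P)) ≃* ↥(Cfsg.SU 3 F (p ^ a))) ∨
                                        Nonempty (↥(Cfsg.pResidual p (↥P ⧸ Cfsg.pCore p ↥P)) ≃* Cfsg.PSU 3 F (p ^ a))))))
    {z : G} (hz : ∀ x ∈ Subgroup.normalizer ((S : Subgroup G) : Set G), x * z = z * x)
    (hzp : ∃ k : ℕ, orderOf z = p ^ k) : z ∈ (Cfsg.pCore p ↥P).map P.subtype := by
  classical
  obtain ⟨k, hk⟩ := hzp
  have hzS : z ∈ (S : Subgroup G) := by
    refine mem_of_normalizes S.isPGroup' S.not_dvd_index (IsPGroup.of_card (n := k) (by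
      rw [Nat.card_zpowers, hk])) ?_
    refine Subgroup.centralizer_le_normalizer _ fun s hs => ?_
    exact hz s (Subgroup.le_normalizer hs)
  set f := QuotientGroup.mk' (Cfsg.pCore p ↥P)
  let S' : Sylow p ↥P := S.subtype hSP
  let SQ : Sylow p (↥P ⧸ Cfsg.pCore p ↥P) := S'.mapSurjective (QuotientGroup.mk'_surjective _)
  haveI := CfsgLib.Transfer.pResidual_normal p (↥P ⧸ Cfsg.pCore p ↥P)
  obtain ⟨D⟩ := exists_data hp hrk
  have hker : f.ker ≤ (S' : Subgroup ↥P) := by
    rw [QuotientGroup.ker_mk']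
    intro x hx
    refine mem_of_normalizes S'.isPGroup' S'.not_dvd_index
      ((CfsgLib.Fitting.pCore_isPGroup p).to_le (Subgroup.zpowers_le.mpr hx)) ?_
    have h : Cfsg.pCore p ↥P ≤ Subgroup.normalizer ((S' : Subgroup ↥P) : Set ↥P) := by
      intro y hy
      have hsup : IsPGroup p ↥((S' : Subgroup ↥P) ⊔ Cfsg.pCore p ↥P) :=
        IsPGroup.to_sup_of_normal_right S'.isPGroup' (CfsgLib.Fitting.pCore_isPGroup p)
      have := S'.3 hsup le_sup_left
      exact Subgroup.le_normalizer (this.le (le_sup_right (a := (S' : Subgroup ↥P)) hy))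
    exact h hx
  have h1 := eq_one_of_commute (Q := ↥P ⧸ Cfsg.pCore p ↥P)
    (le_bot_iff.mp CfsgLib.ZJ.pCore_quotient_pCore_le_bot) _
    CfsgLib.Transfer.isPGroup_quotient_pResidual D SQ (z := f ⟨z, hSP hzS⟩)
    ⟨⟨z, hSP hzS⟩, hzS, rfl⟩ ?_
  · exact ⟨⟨z, hSP hzS⟩, (QuotientGroup.eq_one_iff _).mp h1, rfl⟩
  · intro y hy
    obtain ⟨x, rfl⟩ := QuotientGroup.mk'_surjective (Cfsg.pCore p ↥P) y
    have hxN : (x : G) ∈ Subgroup.normalizer ((S : Subgroup G) : Set G) := by
      refine mem_normalizer_iff_map.mpr (Subgroup.eq_of_le_of_card_ge ?_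
        (Subgroup.card_map_of_injective (MulEquiv.injective _)).ge)
      rintro _ ⟨s, hs, rfl⟩
      obtain ⟨v, hv, hvx⟩ := (Subgroup.mem_normalizer_iff.mp hy (f ⟨s, hSP hs⟩)).mp ⟨⟨s, hSP hs⟩, hs, rfl⟩
      rw [← map_inv, ← map_mul, ← map_mul] at hvx
      have h2 : v⁻¹ * (x * ⟨s, hSP hs⟩ * x⁻¹) ∈ (S' : Subgroup ↥P) :=
        hker (by rw [MonoidHom.mem_ker, map_mul, map_inv, hvx, inv_mul_cancel])
      have h3 := mul_mem hv h2
      rw [mul_inv_cancel_left] at h3
      exact h3
    show f x * f ⟨z, hSP hzS⟩ = f ⟨z, hSP hzS⟩ * f x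
    rw [← map_mul, ← map_mul]
    exact congrArg f (Subtype.ext (hz _ hxN))

end CfsgLib.IsolatedRankOne
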