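import Cfsg.Agent.Lib.IsolatedRankOne.Data

/-!
Rank one data pass to quotients by central subgroups.
-/

set_option autoImplicit false
set_option linter.unusedSectionVars false
set_option linter.style.haveILetI false

open scoped commutatorElement

namespace CfsgLib.IsolatedRankOne.Data

variable {X Y : Type*} [Group X] [Group Y] [Finite X] {p : ℕ} [Fact p.Prime]

/-- Two `p`-elements with the same image modulo a central kernel are equal. -/
theorem eq_of_map_eq (D : Data p X) {f : X →* Y} (hker : f.ker ≤ Subgroup.center X) {a b : X}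
    {A B : Subgroup X} (hA : IsPGroup p ↥A) (hB : IsPGroup p ↥B) (ha : a ∈ A) (hb : b ∈ B)
    (h : f a = f b) : a = b := by
  have hc : b⁻¹ * a ∈ Subgroup.center X := hker (by rw [MonoidHom.mem_ker, map_mul, map_inv, h, inv_mul_cancel])
  have hcomm : Commute a b⁻¹ := by
    have h1 := Subgroup.mem_center_iff.mp hc b⁻¹
    -- b⁻¹ (b⁻¹ a) = (b⁻¹ a) b⁻¹
    show a * b⁻¹ = b⁻¹ * a
    calc a * b⁻¹ = b * (b⁻¹ * a * b⁻¹) := by group
      _ = b * (b⁻¹ * (b⁻¹ * a)) := by rw [h1]
      _ = b⁻¹ * a := by group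
  obtain ⟨i, hi⟩ := hA ⟨a, ha⟩
  obtain ⟨j, hj⟩ := hB ⟨b, hb⟩
  have hi' : a ^ p ^ i = 1 := congrArg Subtype.val hi
  have hj' : b ^ p ^ j = 1 := congrArg Subtype.val hj
  have hp : IsPGroup p ↥(Subgroup.zpowers (b⁻¹ * a)) := by
    have ho : (b⁻¹ * a) ^ p ^ (i + j) = 1 := by
      rw [(hcomm.symm).mul_pow, inv_pow, pow_add, pow_mul a, hi', one_pow, mul_comm, pow_mul b, hj', one_pow,
        inv_one, one_mul]
    rintro ⟨y, k, rfl⟩
    refine ⟨i + j, Subtype.ext ?_⟩
    show ((b⁻¹ * a) ^ k) ^ p ^ (i + j) = 1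
    rw [← zpow_natCast, ← zpow_mul, mul_comm, zpow_mul, zpow_natCast, ho, one_zpow]
  exact (inv_mul_eq_one.mp (D.central_eq_one hc hp)).symm

theorem map_map_conj (f : X →* Y) (H : Subgroup X) (g : X) :
    (H.map (MulAut.conj g).toMonoidHom).map f = (H.map f).map (MulAut.conj (f g)).toMonoidHom := by
  rw [Subgroup.map_map, Subgroup.map_map]
  congr 1
  ext x
  simp

/-- Transport of rank one data along a surjection with central kernel. -/
def map (D : Data p X) (f : X →* Y) (hf : Function.Surjective f) (hker : f.ker ≤ Subgroup.center X) :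
    Data p Y where
  U := D.U.map f
  U₀ := D.U₀.map f
  t := f D.t
  isP := D.isP.map f
  index := fun h => D.index (h.trans (Subgroup.index_map_dvd _ hf))
  nontriv := fun h => D.nontriv (by
    rw [eq_bot_iff]
    intro u hu
    have hu1 : f u = f 1 := by
      rw [map_one]
      exact Subgroup.mem_bot.mp (h ▸ Subgroup.mem_map_of_mem f hu)
    exact Subgroup.mem_bot.mpr (D.eq_of_map_eq hker D.isP D.isP hu (one_mem _) hu1))
  inter := by
    rw [eq_bot_iff]
    rintro y ⟨⟨a, ha, rfl⟩, ⟨b, hb, hab⟩⟩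
    have h := D.eq_of_map_eq hker D.isP D.isP₀ ha hb hab.symm
    have h1 : a ∈ D.U ⊓ D.U₀ := ⟨ha, h ▸ hb⟩
    rw [D.inter, Subgroup.mem_bot] at h1
    rw [h1, map_one]
    exact Subgroup.mem_bot.mpr rfl
  conj₀ := by
    obtain ⟨w, hw⟩ := D.conj₀
    exact ⟨f w, by rw [hw, map_map_conj]⟩
  trans := fun g => by
    obtain ⟨g, rfl⟩ := hf g
    rcases D.trans g with h | ⟨u, hu, h⟩
    · exact Or.inl (by rw [← map_map_conj, h])
    · exact Or.inr ⟨f u, Subgroup.mem_map_of_mem f hu, by rw [← map_map_conj, h, map_map_conj]⟩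
  htU := by
    rw [mem_normalizer_iff_map_of_surjective f D.U D.t]
    rw [mem_normalizer_iff_map.mp D.htU]
  htU₀ := by
    rw [mem_normalizer_iff_map_of_surjective f D.U₀ D.t]
    rw [mem_normalizer_iff_map.mp D.htU₀]
  htp := by rw [← map_pow, D.htp, map_one]
  free := by
    rintro _ ⟨u, hu, rfl⟩ h
    have h1 : D.t * u * D.t⁻¹ = u := D.eq_of_map_eq hker D.isP D.isP
      ((Subgroup.mem_normalizer_iff.mp D.htU u).mp hu) hu (by
        rw [map_mul, map_mul, map_inv, h, mul_inv_cancel_right])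
    rw [D.free u hu (mul_inv_eq_iff_eq_mul.mp h1), map_one]
  cyc := by
    obtain ⟨g₀, hg₀, hall⟩ := D.cyc
    refine ⟨f g₀, ?_, fun y hy => ?_⟩
    · rw [mem_normalizer_iff_map_of_surjective f D.U g₀]
      rw [mem_normalizer_iff_map.mp hg₀]
    · obtain ⟨x, rfl⟩ := hf y
      have hx : x ∈ Subgroup.normalizer (D.U : Set X) := by
        refine Subgroup.mem_normalizer_iff.mpr fun u => ⟨fun hu => ?_, fun hu => ?_⟩
        · obtain ⟨v, hv, hvx⟩ := (Subgroup.mem_normalizer_iff.mp hy (f u)).mp (Subgroup.mem_map_of_mem f hu)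
          have h := D.eq_of_map_eq hker (D.isP.map (MulAut.conj x).toMonoidHom) D.isP
            ⟨u, hu, rfl⟩ hv (by rw [hvx]; simp)
          change x * u * x⁻¹ = v at h
          exact h ▸ hv
        · obtain ⟨v, hv, hvx⟩ := (Subgroup.mem_normalizer_iff.mp hy (f u)).mpr (by
            rw [← map_inv, ← map_mul, ← map_mul]; exact Subgroup.mem_map_of_mem f hu)
          have hu' : u ∈ D.U.map (MulAut.conj x⁻¹).toMonoidHom :=
            ⟨_, hu, by simp [mul_assoc]⟩
          rw [← D.eq_of_map_eq hker D.isP (D.isP.map _) hv hu' hvx]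
          exact hv
      obtain ⟨k, u, hu, he⟩ := hall x hx
      exact ⟨k, f u, Subgroup.mem_map_of_mem f hu, by rw [he, map_mul, map_zpow]⟩
  perfect := by
    rw [eq_top_iff, ← Subgroup.map_top_of_surjective f hf, ← D.perfect, commutator_def,
      Subgroup.map_commutator]
    exact Subgroup.commutator_mono le_top le_top
  gen := by
    rw [Subgroup.coe_map, ← Subgroup.map_normalClosure _ f hf, D.gen,
      Subgroup.map_top_of_surjective f hf]
where
  mem_normalizer_iff_map_of_surjective (f : X →* Y) (H : Subgroup X) (g : X) :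
      f g ∈ Subgroup.normalizer ((H.map f : Subgroup Y) : Set Y) ↔
        (H.map (MulAut.conj g).toMonoidHom).map f = H.map f := by
    rw [map_map_conj]
    constructor
    · intro h
      ext y
      rw [Subgroup.mem_map_equiv]
      simpa [mul_assoc] using Subgroup.mem_normalizer_iff.mp h ((MulAut.conj (f g)).symm y)
    · intro h
      refine Subgroup.mem_normalizer_iff.mpr fun y => ?_
      conv_rhs => rw [← h, Subgroup.mem_map_equiv]
      simp [mul_assoc]

end CfsgLib.IsolatedRankOne.Data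

namespace CfsgLib.IsolatedRankOne

/-- In a perfect group simple modulo its centre, a subgroup meeting a conjugate trivially
generates the group as a normal subgroup. -/
theorem gen_of_simple {X : Type*} [Group X] (hperf : commutator X = ⊤)
    (hs : IsSimpleGroup (X ⧸ Subgroup.center X)) {U U₀ : Subgroup X} (hne : U ≠ ⊥) (hinter : U ⊓ U₀ = ⊥)
    {w : X} (hw : U₀ = U.map (MulAut.conj w).toMonoidHom) :
    Subgroup.normalClosure (U : Set X) = ⊤ := by
  set N := Subgroup.normalClosure (U : Set X) with hN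
  have hUN : U ≤ N := Subgroup.subset_normalClosure
  rcases ((inferInstance : N.Normal).map (QuotientGroup.mk' (Subgroup.center X))
      (QuotientGroup.mk'_surjective _)).eq_bot_or_eq_top with h | h
  · exfalso
    rw [Subgroup.map_eq_bot_iff, QuotientGroup.ker_mk'] at h
    have hUC := hUN.trans h
    have heq : U₀ = U := by
      rw [hw]
      ext y
      rw [Subgroup.mem_map_equiv]
      simp only [MulAut.conj_symm_apply]
      constructor
      · intro hy
        have h1 := Subgroup.mem_center_iff.mp (hUC hy) w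
        have e : y = w⁻¹ * y * w := by
          calc y = w * (w⁻¹ * y * w) * w⁻¹ := by group
            _ = w⁻¹ * y * w := by rw [h1, mul_inv_cancel_right]
        rwa [e]
      · intro hy
        rwa [mul_assoc, ← Subgroup.mem_center_iff.mp (hUC hy) w, inv_mul_cancel_left]
    rw [heq, inf_idem] at hinter
    exact hne hinter
  · have h1 := Subgroup.comap_map_eq (QuotientGroup.mk' (Subgroup.center X)) N
    rw [h, Subgroup.comap_top, QuotientGroup.ker_mk'] at h1
    have hle : commutator X ≤ N := by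
      rw [commutator_eq_closure, Subgroup.closure_le]
      rintro c ⟨a, b, rfl⟩
      obtain ⟨n₁, hn₁, z₁, hz₁, rfl⟩ := Subgroup.mem_sup_of_normal_right.mp (h1 ▸ Subgroup.mem_top a)
      obtain ⟨n₂, hn₂, z₂, hz₂, rfl⟩ := Subgroup.mem_sup_of_normal_right.mp (h1 ▸ Subgroup.mem_top b)
      have c1 := Subgroup.mem_center_iff.mp hz₁
      have c2 := Subgroup.mem_center_iff.mp hz₂
      have e : ⁅n₁ * z₁, n₂ * z₂⁆ = ⁅n₁, n₂⁆ := by
        simp only [commutatorElement_def, mul_inv_rev]
        calc n₁ * z₁ * (n₂ * z₂) * (z₁⁻¹ * n₁⁻¹) * (z₂⁻¹ * n₂⁻¹)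
            = n₁ * (z₁ * (n₂ * z₂)) * z₁⁻¹ * n₁⁻¹ * z₂⁻¹ * n₂⁻¹ := by group
          _ = n₁ * n₂ * (z₂ * n₁⁻¹) * z₂⁻¹ * n₂⁻¹ := by rw [← c1 (n₂ * z₂)]; group
          _ = n₁ * n₂ * n₁⁻¹ * n₂⁻¹ := by rw [← c2 n₁⁻¹]; group
      show ⁅n₁ * z₁, n₂ * z₂⁆ ∈ N
      rw [e, commutatorElement_def]
      exact mul_mem (mul_mem (mul_mem hn₁ hn₂) (inv_mem hn₁)) (inv_mem hn₂)
    exact top_le_iff.mp (hperf ▸ hle)

end CfsgLib.IsolatedRankOne
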